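import Groth.Agent.FEtExtUnique.Main
import Groth.Agent.Hensel.Sections
import Groth.Agent.Henselization.Basic
import Groth.Agent.IntImage.Spread
import Groth.Agent.RatDense.Hartogs
import Groth.Agent.SpreadOut.Components

/-!
# Restriction to a dense open with connected punctured strict henselizations at infinity
-/

set_option autoImplicit false
set_option backward.isDefEq.respectTransparency false

universe u
open CategoryTheory CategoryTheory.Limits AlgebraicGeometry IsLocalRing

noncomputable section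

namespace Groth.Agent.FEtConnInfty

open FEtExtUnique

/-- Two clopen parts of the preimage have disjoint closures, given connectedness at infinity. -/
theorem disjoint_closures {X : Scheme.{u}} (U : X.Opens)
    (hsh : ∀ x : X, x ∉ U → ∀ (R : Type u) [CommRing R] [IsLocalRing R] [Algebra (X.presheaf.stalk x) R]
      [IsLocalHom (algebraMap (X.presheaf.stalk x) R)] [Hensel.IsStrictHenselization (X.presheaf.stalk x) R],
      ConnectedSpace (FEt.puncturedSpec R : Scheme.{u}))
    {P : Scheme.{u}} (p : P ⟶ X) [IsFinite p] [Etale p] (hd : Dense (p ⁻¹' (U : Set X)))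
    (S T : Set P) (hS : IsOpen S) (hT : IsOpen T) (hdisj : Disjoint S T)
    (hST : S ∪ T = p ⁻¹' (U : Set X))
    (hgenS : ∀ z ∈ closure S, ∃ s ∈ S, s ⤳ z) (hgenT : ∀ z ∈ closure T, ∃ t ∈ T, t ⤳ z) :
    Disjoint (closure S) (closure T) := by
  rw [Set.disjoint_iff_inter_eq_empty]
  by_contra hne
  obtain ⟨z, ⟨hzS, hzT⟩, hmax⟩ := RatDense.exists_maximal_mem (X := P) (closure S ∩ closure T)
    (isClosed_closure.inter isClosed_closure) (Set.nonempty_iff_ne_empty.mpr hne)
  have hzU : p z ∉ U := by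
    intro h
    have hz : z ∈ S ∪ T := hST.symm ▸ h
    rcases hz with h | h
    · exact Set.disjoint_left.mp (hdisj.closure_right hS) h hzT
    · exact Set.disjoint_left.mp (hdisj.closure_left hT) hzS h
  let O := X.presheaf.stalk (p z)
  let R := Henselization.StrictHenselizationRing O
  haveI := hsh (p z) hzU R
  haveI : HenselianLocalRing R := Hensel.IsStrictHenselization.henselian (R := O)
  haveI : IsSepClosed (ResidueField R) :=
    (Hensel.IsStrictHenselization.isSepClosure (R := O) (S := R)).sep_closed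
  let φ : Spec (CommRingCat.of R) ⟶ Spec O := Spec.map (CommRingCat.ofHom (algebraMap O R))
  let a : Spec (CommRingCat.of R) ⟶ X := φ ≫ X.fromSpecStalk (p z)
  haveI : Flat φ := (HasRingHomProperty.Spec_iff (P := @Flat)).mpr
    (RingHom.flat_algebraMap_iff.mpr inferInstance)
  haveI : Flat (X.fromSpecStalk (p z)) := IntImage.flat_fromSpecStalk _
  haveI : Flat a := inferInstance
  have hφc : φ (closedPoint R) = closedPoint O := by
    change PrimeSpectrum.comap (algebraMap O R) (closedPoint R) = _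
    exact IsLocalRing.comap_closedPoint _
  have hac : a (closedPoint R) = p z := by
    rw [Scheme.Hom.comp_apply, hφc, Scheme.fromSpecStalk_closedPoint]
  obtain ⟨w, hw1, hw2⟩ := Scheme.Pullback.exists_preimage_pullback (f := p) (g := a) z
    (closedPoint R) hac.symm
  haveI : Etale (pullback.snd p a) := inferInstance
  obtain ⟨v, hv, hvc⟩ := Hensel.exists_section_of_etale (A := R) (pullback.snd p a) w hw2
  haveI : Etale (v ≫ pullback.snd p a) := by rw [hv]; infer_instance
  haveI : Etale v := Etale.of_comp v (pullback.snd p a)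
  haveI : Flat (pullback.fst p a) := MorphismProperty.pullback_fst (P := @Flat) p a inferInstance
  let ψ := v ≫ pullback.fst p a
  haveI : Flat ψ := inferInstance
  have hψc : ψ (closedPoint R) = z := by rw [Scheme.Hom.comp_apply, hvc, hw1]
  have hψp : ψ ≫ p = a := by
    rw [Category.assoc, pullback.condition, ← Category.assoc, hv, Category.id_comp]
  -- only the closed point lies over `z`
  have honly : ∀ t, ψ t = z → t = closedPoint R := by
    intro t ht
    have h1 : X.fromSpecStalk (p z) (φ t) = X.fromSpecStalk (p z) (closedPoint O) := by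
      rw [Scheme.fromSpecStalk_closedPoint, ← Scheme.Hom.comp_apply]
      change a t = p z
      rw [← hψp, Scheme.Hom.comp_apply, ht]
    have h2 : ((t : PrimeSpectrum R).asIdeal.comap (algebraMap O R)) = maximalIdeal O :=
      congrArg PrimeSpectrum.asIdeal ((X.fromSpecStalk (p z)).isEmbedding.injective h1)
    refine PrimeSpectrum.ext (le_antisymm (le_maximalIdeal (t : PrimeSpectrum R).2.ne_top) ?_)
    change maximalIdeal R ≤ _
    rw [← Henselization.map_maximalIdeal, Ideal.map_le_iff_le_comap]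
    exact h2.ge
  let ι := (FEt.puncturedSpec R).ι
  let m : ↥(FEt.puncturedSpec R).toScheme → P := fun t => ψ (ι t)
  have hm : Continuous m := ψ.continuous.comp ι.continuous
  let A := m ⁻¹' closure S
  let B := m ⁻¹' closure T
  have hAB : A ∩ B = ∅ := by
    refine Set.eq_empty_iff_forall_notMem.mpr fun t ⟨h1, h2⟩ => t.2 ?_
    have h3 : ψ (ι t) ⤳ z :=
      (Specializes.map (IsLocalRing.specializes_closedPoint _) ψ.continuous).trans
        (specializes_of_eq hψc)
    exact honly _ (hmax _ ⟨h1, h2⟩ h3)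
  have hun : A ∪ B = Set.univ := Set.eq_univ_of_forall fun t => by
    have h : m t ∈ closure (S ∪ T) := by rw [hST]; exact hd _
    rwa [closure_union] at h
  have hlift : ∀ s : P, s ∈ S ∪ T → s ⤳ z → ∃ t, m t = s := by
    intro s hs hsz
    obtain ⟨t, -, ht⟩ := Flat.generalizingMap ψ (hsz.trans (specializes_of_eq hψc.symm))
    have htc : t ≠ closedPoint R := by
      rintro rfl
      have h4 : s ∈ p ⁻¹' (U : Set X) := hST ▸ hs
      have h5 : s = z := ht.symm.trans hψc
      subst h5
      exact hzU h4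
    exact ⟨⟨t, htc⟩, ht⟩
  obtain ⟨s, hs, hsz⟩ := hgenS z hzS
  obtain ⟨t, ht, htz⟩ := hgenT z hzT
  obtain ⟨ts, hts⟩ := hlift s (Or.inl hs) hsz
  obtain ⟨tt, htt⟩ := hlift t (Or.inr ht) htz
  have hAc : Aᶜ = B := by
    ext x
    constructor
    · intro hx
      exact ((Set.eq_univ_iff_forall.mp hun x).resolve_left hx)
    · intro hx hx'
      exact Set.eq_empty_iff_forall_notMem.mp hAB x ⟨hx', hx⟩
  have hA : IsClopen A := ⟨isClosed_closure.preimage hm,
    isClosed_compl_iff.mp (hAc ▸ isClosed_closure.preimage hm)⟩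
  have hAu : A = Set.univ := hA.eq_univ ⟨ts, show m ts ∈ closure S from hts ▸ subset_closure hs⟩
  refine Set.eq_empty_iff_forall_notMem.mp hAB tt ⟨hAu ▸ trivial, ?_⟩
  show m tt ∈ closure T
  rw [htt]
  exact subset_closure ht

/-- Open closures, given connectedness at infinity and the generization property. -/
theorem hasOpenClosures {X : Scheme.{u}} (U : X.Opens) (hU : Dense (U : Set X))
    (hsh : ∀ x : X, x ∉ U → ∀ (R : Type u) [CommRing R] [IsLocalRing R] [Algebra (X.presheaf.stalk x) R]
      [IsLocalHom (algebraMap (X.presheaf.stalk x) R)] [Hensel.IsStrictHenselization (X.presheaf.stalk x) R],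
      ConnectedSpace (FEt.puncturedSpec R : Scheme.{u}))
    (hgen : ∀ {P : Scheme.{u}} (p : P ⟶ X) [IsFinite p] [Etale p] (S : Set P), IsOpen S →
      S ⊆ p ⁻¹' (U : Set X) → IsOpen (p ⁻¹' (U : Set X) \ S) → ∀ z ∈ closure S, ∃ s ∈ S, s ⤳ z) :
    HasOpenClosures U := by
  intro P p _ _ S hS hsub hc
  have hd : Dense (p ⁻¹' (U : Set X)) := hU.preimage p.isOpenMap
  let T := p ⁻¹' (U : Set X) \ S
  have hT : T ⊆ p ⁻¹' (U : Set X) := Set.sdiff_subset
  have hTc : IsOpen (p ⁻¹' (U : Set X) \ T) := by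
    rwa [Set.sdiff_sdiff_cancel_left hsub]
  have hdisj := disjoint_closures U hsh p hd S T hS hc Set.disjoint_sdiff_right
    (Set.union_sdiff_cancel hsub) (hgen p S hS hsub hc) (hgen p T hc hT hTc)
  have he : closure S = (closure T)ᶜ := by
    refine subset_antisymm (fun x hx hx' => Set.disjoint_left.mp hdisj hx hx') fun x hx => ?_
    have h : x ∈ closure (S ∪ T) := by rw [Set.union_sdiff_cancel hsub]; exact hd x
    rw [closure_union] at h
    exact h.resolve_right hx
  rw [he]
  exact isClosed_closure.isOpen_compl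

/-- The generization property for a retrocompact open. -/
theorem gen_of_quasiCompact {X : Scheme.{u}} (U : X.Opens) [QuasiCompact U.ι]
    {P : Scheme.{u}} (p : P ⟶ X) [IsFinite p] (S : Set P) (hS : IsOpen S)
    (hsub : S ⊆ p ⁻¹' (U : Set X)) (hc : IsOpen (p ⁻¹' (U : Set X) \ S)) :
    ∀ z ∈ closure S, ∃ s ∈ S, s ⤳ z := by
  intro z hz
  haveI : QuasiCompact (p ⁻¹ᵁ U).ι := by
    have h := isPullback_morphismRestrict p U
    exact MorphismProperty.of_isPullback h ‹QuasiCompact U.ι›
  let Z : Set (p ⁻¹ᵁ U).toScheme := (p ⁻¹ᵁ U).ι ⁻¹' S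
  have hZ : IsClosed Z := by
    rw [← isOpen_compl_iff]
    convert hc.preimage (p ⁻¹ᵁ U).ι.continuous using 1
    ext x
    exact ⟨fun h => ⟨x.2, h⟩, fun h => h.2⟩
  have hz' : z ∈ closure ((p ⁻¹ᵁ U).ι '' Z) := by
    rw [Set.image_preimage_eq_inter_range, Scheme.Opens.range_ι,
      Set.inter_eq_left.mpr (show S ⊆ ((p ⁻¹ᵁ U : P.Opens) : Set P) from hsub)]
    exact hz
  obtain ⟨x, hx, hxz⟩ := SpreadOut.exists_specializes_of_mem_closure_image (p ⁻¹ᵁ U).ι hZ hz'
  exact ⟨_, hx, hxz⟩

/-- The generization property when quasi-compact opens have finitely many components. -/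
theorem gen_of_finite_components {X : Scheme.{u}}
    (hirr : ∀ V : X.Opens, IsCompact (V : Set X) → (irreducibleComponents ↥V).Finite)
    {P : Scheme.{u}} (p : P ⟶ X) [IsFinite p] [Etale p] (S : Set P) (hS : IsOpen S) :
    ∀ z ∈ closure S, ∃ s ∈ S, s ⤳ z := by
  intro z hz
  obtain ⟨_, ⟨(V : X.Opens), hV, rfl⟩, hzV, -⟩ :=
    X.isBasis_affineOpens.exists_subset_of_mem_open (Set.mem_univ (p z)) isOpen_univ
  let N : P.Opens := p ⁻¹ᵁ V
  let M : Set P := {w | w ∈ N ∧ ∀ v : P, v ⤳ w → v = w}
  let MX : Set X := {w | w ∈ V ∧ ∀ v : X, v ⤳ w → v = w}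
  have hMX : MX.Finite := by
    have hfin := hirr V hV.isCompact
    refine ((hfin.image fun c => {w : X | ∃ g : V.toScheme, IsGenericPoint g c ∧ V.ι g = w}).sUnion
      ?_).subset ?_
    · rintro _ ⟨c, -, rfl⟩
      refine Set.Subsingleton.finite ?_
      rintro _ ⟨g, hg, rfl⟩ _ ⟨g', hg', rfl⟩
      rw [hg.eq hg']
    · rintro w ⟨hwV, hw⟩
      let w' : V.toScheme := ⟨w, hwV⟩
      refine ⟨_, ⟨irreducibleComponent w', irreducibleComponent_mem_irreducibleComponents _, rfl⟩,
        w', ?_, rfl⟩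
      obtain ⟨g, hg⟩ := QuasiSober.sober (isIrreducible_irreducibleComponent (x := w'))
        (isClosed_irreducibleComponent (x := w'))
      have h1 : g ⤳ w' := hg.specializes mem_irreducibleComponent
      exact (V.ι.isOpenEmbedding.injective (hw _ (h1.map V.ι.continuous)) : g = w') ▸ hg
  have hM : M.Finite := by
    refine (hMX.biUnion fun x _ => (Scheme.Hom.finite_preimage_singleton p x)).subset ?_
    rintro w ⟨hwN, hw⟩
    refine Set.mem_biUnion (x := p w) ⟨hwN, fun v hv => ?_⟩ rfl
    obtain ⟨w', hw', rfl⟩ := Flat.generalizingMap p hv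
    rw [hw w' hw']
  have hcl : IsClosed (⋃ w ∈ M ∩ S, closure ({w} : Set P)) :=
    (hM.inter_of_left S).isClosed_biUnion fun _ _ => isClosed_closure
  have hsub : (N : Set P) ∩ S ⊆ ⋃ w ∈ M ∩ S, closure ({w} : Set P) := by
    rintro y ⟨hyN, hyS⟩
    obtain ⟨w, hwy, hw⟩ := DimFormulaLib.exists_maximal_point y
    exact Set.mem_biUnion ⟨⟨hwy.mem_open N.2 hyN, hw⟩, hwy.mem_open hS hyS⟩ hwy.mem_closure
  have hz' : z ∈ ⋃ w ∈ M ∩ S, closure ({w} : Set P) := by
    refine closure_minimal hsub hcl (mem_closure_iff.mpr fun O hO hzO => ?_)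
    obtain ⟨y, ⟨hyO, hyN⟩, hyS⟩ := mem_closure_iff.mp hz (O ∩ N) (hO.inter N.2) ⟨hzO, hzV⟩
    exact ⟨y, hyO, hyN, hyS⟩
  obtain ⟨w, ⟨-, hwS⟩, hwz⟩ := Set.mem_iUnion₂.mp hz'
  exact ⟨w, hwS, specializes_iff_mem_closure.mpr hwz⟩

end Groth.Agent.FEtConnInfty
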